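import Cfsg.Agent.H82.SylowIn
import Cfsg.Agent.H9.NilHall.Local
import Cfsg.Agent.H5.PResidual
import Cfsg.Agent.H7.RankGraph
import Cfsg.Agent.H7.Balance
import Cfsg.Agent.H67.SECount
import Cfsg.Agent.H85.BrauerSuzuki

/-!
Involutions that are central in every 2-subgroup containing them, in groups whose involution
centralisers have normal 2-complements (helper9).
-/

set_option autoImplicit false
set_option linter.unusedSectionVars false
set_option linter.style.haveILetI false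

namespace H9.GI

open Subgroup

universe u

variable {G : Type u} [Group G]

/-- An involution central in every 2-subgroup containing it. -/
def GoodInv (a : G) : Prop :=
  orderOf a = 2 ∧ ∀ Q : Subgroup G, IsPGroup 2 Q → a ∈ Q → ∀ x ∈ Q, a * x = x * a

/-- All involution centralisers have normal 2-complements. -/
def TwoNil (G : Type u) [Group G] : Prop :=
  ∀ t : G, orderOf t = 2 → Cfsg.HasNormalPComplement 2 ↥(centralizer ({t} : Set G))

/-- The elements of `P` of exponent two commuting with all of `P`. -/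
def omZ (P : Subgroup G) : Subgroup G where
  carrier := {x | x ∈ P ∧ x * x = 1 ∧ ∀ y ∈ P, x * y = y * x}
  one_mem' := ⟨one_mem P, one_mul 1, fun y _ => by rw [one_mul, mul_one]⟩
  mul_mem' := fun {x z} hx hz => ⟨mul_mem hx.1 hz.1, by
      rw [mul_assoc, ← mul_assoc z x z, ← hx.2.2 z hz.1, mul_assoc x z z, hz.2.1, mul_one, hx.2.1],
    fun y hy => by rw [mul_assoc, hz.2.2 y hy, ← mul_assoc, hx.2.2 y hy, mul_assoc]⟩
  inv_mem' := fun {x} hx => ⟨inv_mem hx.1, by rw [← mul_inv_rev, hx.2.1, inv_one], fun y hy => by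
      rw [inv_eq_of_mul_eq_one_right hx.2.1, hx.2.2 y hy]⟩

theorem omZ_le (P : Subgroup G) : omZ P ≤ P := fun _ hx => hx.1

theorem omZ_ea (P : Subgroup G) : Cfsg.IsElementaryAbelian 2 (omZ P) :=
  H7.isElementaryAbelian_of_comm (fun _ ha b hb => ha.2.2 b hb.1)
    fun a ha => by rw [pow_two]; exact ha.2.1

theorem two_of_sq {x : G} (h : x * x = 1) (h1 : x ≠ 1) : orderOf x = 2 :=
  orderOf_eq_prime (by rw [pow_two]; exact h) h1

theorem mem_cent {x g : G} : g ∈ centralizer ({x} : Set G) ↔ g * x = x * g :=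
  mem_centralizer_singleton_iff

theorem twoGroup_zpowers {x : G} (hx : orderOf x = 2) : IsPGroup 2 (zpowers x) :=
  IsPGroup.of_card (n := 1) (by rw [Nat.card_zpowers, hx, pow_one])

theorem GoodInv.conj {a : G} (ha : GoodInv a) (g : G) : GoodInv (g * a * g⁻¹) := by
  refine ⟨(MulEquiv.orderOf_eq (MulAut.conj g) a).trans ha.1, fun Q hQ hm x hx => ?_⟩
  have h := ha.2 (Q.map (MulAut.conj g⁻¹).toMonoidHom) (hQ.map _)
    (H82.mem_map_conj_iff.2 (by rwa [inv_inv])) (g⁻¹ * x * g)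
    (H82.mem_map_conj_iff.2 (by simpa [mul_assoc] using hx))
  calc g * a * g⁻¹ * x = g * (a * (g⁻¹ * x * g)) * g⁻¹ := by group
    _ = g * (g⁻¹ * x * g * a) * g⁻¹ := by rw [h]
    _ = x * (g * a * g⁻¹) := by group

section Finite

variable [Finite G]

theorem odd_theta (t : G) : Odd (Nat.card (Cfsg.centralizerPPrimeCore 2 t)) := by
  haveI : Fact (Nat.Prime 2) := ⟨Nat.prime_two⟩
  exact Nat.odd_iff.2 (Nat.two_dvd_ne_zero.1 (H7.not_dvd_centralizerPPrimeCore t))

theorem le_theta {t : G} (hn : Cfsg.HasNormalPComplement 2 ↥(centralizer ({t} : Set G))) {x : G}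
    (hx : Odd (orderOf x)) (hxt : x * t = t * x) : x ∈ Cfsg.centralizerPPrimeCore 2 t := by
  haveI : Fact (Nat.Prime 2) := ⟨Nat.prime_two⟩
  set C := centralizer ({t} : Set G)
  have hxC : x ∈ C := mem_cent.2 hxt
  have h1 : (⟨x, hxC⟩ : C) ∈ Cfsg.pResidual 2 C :=
    H5.mem_pResidual_of_coprime (by rw [orderOf_mk]; exact Nat.coprime_two_right.2 hx)
  haveI : (Cfsg.pResidual 2 C).Normal := inferInstance
  have h2 : Cfsg.pResidual 2 C ≤ Cfsg.pPrimeCore 2 C := H1.le_pPrimeCore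
    ((Nat.prime_two.coprime_iff_not_dvd.2 (H5.hasNormalPComplement_iff_not_dvd.1 hn)).symm)
  exact ⟨_, h2 h1, rfl⟩

theorem odd_le_theta {t : G} (hn : Cfsg.HasNormalPComplement 2 ↥(centralizer ({t} : Set G)))
    {K : Subgroup G} (hK : Odd (Nat.card K)) (hKt : ∀ x ∈ K, x * t = t * x) :
    K ≤ Cfsg.centralizerPPrimeCore 2 t := fun x hx =>
  le_theta hn (hK.of_dvd_nat (Subgroup.orderOf_dvd_natCard K hx)) (hKt x hx)

/-- The centraliser is its odd core times a Sylow 2-subgroup. -/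
theorem cent_decomp {t : G} (hn : Cfsg.HasNormalPComplement 2 ↥(centralizer ({t} : Set G)))
    {S : Subgroup G} (hS : H82.SylowIn 2 S (centralizer ({t} : Set G))) {g : G} (hg : g * t = t * g) :
    ∃ o ∈ Cfsg.centralizerPPrimeCore 2 t, ∃ s ∈ S, g = o * s := by
  haveI : Fact (Nat.Prime 2) := ⟨Nat.prime_two⟩
  set C := centralizer ({t} : Set G)
  obtain ⟨S', hS'⟩ := hS.exists_sylow
  haveI : (Cfsg.pResidual 2 C).Normal := inferInstance
  have h2 : Cfsg.pResidual 2 C ≤ Cfsg.pPrimeCore 2 C := H1.le_pPrimeCore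
    ((Nat.prime_two.coprime_iff_not_dvd.2 (H5.hasNormalPComplement_iff_not_dvd.1 hn)).symm)
  have h3 : (⟨g, mem_cent.2 hg⟩ : C) ∈ Cfsg.pResidual 2 C ⊔ (S' : Subgroup C) := by
    rw [H5.pResidual_sup_sylow S']; exact mem_top _
  obtain ⟨o, ho, s, hs, e⟩ := mem_sup_of_normal_left.1 h3
  exact ⟨o, ⟨o, h2 ho, rfl⟩, s, hS' ▸ ⟨s, hs, rfl⟩, (congrArg Subtype.val e).symm⟩

/-- A 2-subgroup of a centraliser moves into any of its Sylow subgroups by the odd core. -/
theorem exists_theta_conj {t : G} (hn : Cfsg.HasNormalPComplement 2 ↥(centralizer ({t} : Set G)))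
    {S Q : Subgroup G} (hS : H82.SylowIn 2 S (centralizer ({t} : Set G))) (hQ : IsPGroup 2 Q)
    (hQt : Q ≤ centralizer ({t} : Set G)) :
    ∃ o ∈ Cfsg.centralizerPPrimeCore 2 t, ∀ x ∈ Q, o * x * o⁻¹ ∈ S := by
  haveI : Fact (Nat.Prime 2) := ⟨Nat.prime_two⟩
  obtain ⟨m, hm, hle⟩ := hS.exists_conj_le hQ hQt
  obtain ⟨o, ho, s, hs, e⟩ := cent_decomp hn hS (mem_cent.1 (inv_mem hm))
  refine ⟨o⁻¹, inv_mem ho, fun x hx => ?_⟩
  have h1 : m * x * m⁻¹ ∈ S := hle (H82.mem_map_conj_iff.2 (by simpa [mul_assoc] using hx))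
  have h2 := mul_mem (mul_mem hs h1) (inv_mem hs)
  rw [show m = s⁻¹ * o⁻¹ by rw [← inv_inv m, e, mul_inv_rev]] at h2
  simpa [mul_assoc] using h2

theorem theta_le_cent {t x : G} (hx : x ∈ Cfsg.centralizerPPrimeCore 2 t) : x * t = t * x :=
  mem_cent.1 (H7.centralizerPPrimeCore_le 2 t hx)

theorem eq_one_of_odd_two {K Q : Subgroup G} (hK : Odd (Nat.card K)) (hQ : IsPGroup 2 Q) {x : G}
    (hxK : x ∈ K) (hxQ : x ∈ Q) : x = 1 := by
  obtain ⟨i, hi⟩ := hQ ⟨x, hxQ⟩
  exact orderOf_eq_one_iff.mp (Nat.eq_one_of_dvd_coprimes ((Nat.coprime_two_left.2 hK).pow_left i)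
    (orderOf_dvd_of_pow_eq_one (congrArg Subtype.val hi)) (Subgroup.orderOf_dvd_natCard K hxK))

theorem sylowIn_cent (S : Sylow 2 G) {t : G} (hS : ∀ x ∈ (S : Subgroup G), x * t = t * x) :
    H82.SylowIn 2 (S : Subgroup G) (centralizer ({t} : Set G)) := by
  haveI : Fact (Nat.Prime 2) := ⟨Nat.prime_two⟩
  exact (H82.sylow_sylowIn_top S).of_le (fun x hx => mem_cent.2 (hS x hx)) le_top

theorem good_central {a : G} (ha : GoodInv a) (S : Sylow 2 G) (hm : a ∈ (S : Subgroup G)) :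
    ∀ x ∈ (S : Subgroup G), x * a = a * x := fun x hx => (ha.2 _ S.2 hm x hx).symm

theorem exists_conj_mem (P : Sylow 2 G) {Q : Subgroup G} (hQ : IsPGroup 2 Q) :
    ∃ g : G, ∀ x ∈ Q, g * x * g⁻¹ ∈ (P : Subgroup G) := by
  haveI : Fact (Nat.Prime 2) := ⟨Nat.prime_two⟩
  obtain ⟨g, -, hg⟩ := (H82.sylow_sylowIn_top P).exists_conj_le hQ le_top
  exact ⟨g, fun x hx => hg (H82.mem_map_conj_iff.2 (by simpa [mul_assoc] using hx))⟩

theorem exists_conj_mem_one (P : Sylow 2 G) {t : G} (ht : orderOf t = 2) :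
    ∃ g : G, g * t * g⁻¹ ∈ (P : Subgroup G) :=
  (exists_conj_mem P (twoGroup_zpowers ht)).imp fun _ h => h t (mem_zpowers t)

theorem twoNil_subgroup (hnil : TwoNil G) (M : Subgroup G) : TwoNil ↥M := by
  haveI : Fact (Nat.Prime 2) := ⟨Nat.prime_two⟩
  intro t ht
  refine H5.hasNormalPComplement_of_injective
    (f := (M.subtype.comp (centralizer ({t} : Set M)).subtype).codRestrict
      (centralizer ({(t : G)} : Set G))
      fun x => mem_cent.2 (congrArg Subtype.val (mem_cent.1 x.2))) ?_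
    (hnil t (by rw [Subgroup.orderOf_coe]; exact ht))
  intro x y h
  have h1 := congrArg Subtype.val h
  exact Subtype.ext (Subtype.ext h1)

/-- Centralisers of conjugates inherit normal 2-complements. -/
theorem npc_conj {t : G} (g : G)
    (h : Cfsg.HasNormalPComplement 2 ↥(centralizer ({g * t * g⁻¹} : Set G))) :
    Cfsg.HasNormalPComplement 2 ↥(centralizer ({t} : Set G)) := by
  haveI : Fact (Nat.Prime 2) := ⟨Nat.prime_two⟩
  refine H5.hasNormalPComplement_of_injective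
    (f := ((MulAut.conj g).toMonoidHom.comp (centralizer ({t} : Set G)).subtype).codRestrict
      (centralizer ({g * t * g⁻¹} : Set G)) fun x => mem_cent.2 ?_) ?_ h
  · show g * x * g⁻¹ * (g * t * g⁻¹) = g * t * g⁻¹ * (g * x * g⁻¹)
    calc g * (x : G) * g⁻¹ * (g * t * g⁻¹) = g * (x * t) * g⁻¹ := by group
      _ = g * (t * x) * g⁻¹ := by rw [mem_cent.1 x.2]
      _ = _ := by group
  · intro x y e
    exact Subtype.ext ((MulAut.conj g).injective (congrArg Subtype.val e))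

end Finite

end H9.GI
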