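import Cfsg.Agent.H9.GI.Good
import Cfsg.Agent.H11.CIT.TICase

/-!
The case of involution centralisers inside the Sylow 2-subgroups (helper9).
-/

set_option autoImplicit false
set_option linter.style.haveILetI false
set_option linter.unusedSectionVars false

namespace H9.GI

open Subgroup
open scoped Pointwise

universe u

variable {G : Type u} [Group G] [Finite G]

/-- An elementary abelian subgroup whose nontrivial elements are conjugate in the whole group. -/
def ElemOne (P : Subgroup G) : Prop :=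
  Cfsg.IsElementaryAbelian 2 P ∧
    ∀ x ∈ P, ∀ y ∈ P, x ≠ 1 → y ≠ 1 → ∃ g : G, g * x * g⁻¹ = y

theorem cit_case (hcore : Cfsg.pPrimeCore 2 G = ⊥) (hnil : TwoNil G) (P : Sylow 2 G)
    (hnn : ¬ (P : Subgroup G).Normal) {a : G} (ha : GoodInv a) (haP : a ∈ (P : Subgroup G))
    (hcent : ∀ y ∈ (P : Subgroup G), orderOf y = 2 →
      centralizer ({y} : Set G) ≤ (P : Subgroup G)) :
    ElemOne (P : Subgroup G) ∨ Cfsg.Lie.IsoSuzuki G := by
  haveI : Fact (Nat.Prime 2) := ⟨Nat.prime_two⟩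
  have hO := pCore_eq_bot hcore hnil P hnn ha haP
  have ha1 : a ≠ 1 := H65.ne_one_of_two ha.1
  have heven : ∀ K : Subgroup G, K.Normal → K ≠ ⊥ → ∃ t ∈ K, orderOf t = 2 := by
    intro K hK hne
    refine H65.exists_two_mem (Nat.not_odd_iff_even.1 fun ho => hne ?_)
    have := H1.le_pPrimeCore (p := 2) (N := K) (Nat.coprime_two_right.2 ho)
    rwa [hcore, le_bot_iff] at this
  have hS : ∀ (g : G) (y : G), orderOf y = 2 → y ∈ ((g • P : Sylow 2 G) : Subgroup G) →
      centralizer ({y} : Set G) ≤ ((g • P : Sylow 2 G) : Subgroup G) := by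
    intro g y hy hm x hx
    refine mem_smul_sylow.2 (hcent _ (mem_smul_sylow.1 hm) (by
      simpa using H67.invol_conj hy g⁻¹) (mem_cent.2 ?_))
    calc g⁻¹ * x * g * (g⁻¹ * y * g) = g⁻¹ * (x * y) * g := by group
      _ = g⁻¹ * (y * x) * g := by rw [mem_cent.1 hx]
      _ = _ := by group
  have hcit : H11.CIT.IsCIT G := fun t ht => by
    obtain ⟨g, hg⟩ := exists_conj_mem_one P ht
    exact ((g⁻¹ • P : Sylow 2 G).2).to_le
      (hS g⁻¹ t ht (mem_smul_sylow.2 (by simpa using hg)))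
  have htwo : H11.CIT.NoNormalTwo G := fun K hK hKp => by
    have := H1.le_pCore hKp
    rwa [hO, le_bot_iff] at this
  have hmeet : ∀ (S T : Sylow 2 G) (v : G), v ∈ (S : Subgroup G) → v ∈ (T : Subgroup G) → v ≠ 1 →
      T = S := by
    intro S T v hvS hvT hv
    obtain ⟨g, rfl⟩ := MulAction.exists_smul_eq G P S
    obtain ⟨h, rfl⟩ := MulAction.exists_smul_eq G P T
    obtain ⟨y, hy, hy2⟩ := H11.CIT.exists_invol ((g • P : Sylow 2 G).2.to_le (zpowers_le.2 hvS))
      (zpowers_ne_bot.2 hv)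
    have hyS := zpowers_le.2 hvS hy
    have hyT := zpowers_le.2 hvT hy
    have hz := ha.conj g
    have hzS : g * a * g⁻¹ ∈ ((g • P : Sylow 2 G) : Subgroup G) :=
      mem_smul_sylow.2 (by simpa [mul_assoc] using haP)
    have hzT : g * a * g⁻¹ ∈ ((h • P : Sylow 2 G) : Subgroup G) :=
      hS h y hy2 hyT (mem_cent.2 (hz.2 _ (g • P : Sylow 2 G).2 hzS y hyS))
    refine Sylow.ext ((h • P : Sylow 2 G).is_maximal' (g • P : Sylow 2 G).2 ?_).symm
    exact fun x hx => hS g _ hz.1 hzS (mem_cent.2 (good_central hz _ hzT x hx))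
  set N := normalizer ((P : Subgroup G) : Set G) with hN
  have hhall : ∀ g ∈ N, orderOf g ∣ Nat.card (P : Subgroup G) → g ∈ (P : Subgroup G) := by
    intro g hg ho
    obtain ⟨k, hk⟩ := IsPGroup.iff_card.1 P.isPGroup'
    obtain ⟨j, -, hj⟩ := (Nat.dvd_prime_pow Nat.prime_two).1 (hk ▸ ho)
    have h1 : IsPGroup 2 (zpowers g ⊔ (P : Subgroup G) : Subgroup G) :=
      IsPGroup.to_sup_of_normal_right' (IsPGroup.of_card (n := j) (by rw [Nat.card_zpowers, hj]))
        P.isPGroup' (zpowers_le.2 hg)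
    rw [← P.is_maximal' h1 le_sup_right]
    exact le_sup_left (b := (P : Subgroup G)) (mem_zpowers g)
  have hcomp : H11.CTI.IsComp (P : Subgroup G) := by
    refine ⟨fun m hm hm1 => ?_, a, haP, ha1, good_central ha P haP⟩
    obtain ⟨t, htm, ht⟩ := H11.CIT.exists_invol (P.isPGroup'.to_le (zpowers_le.2 hm))
      (zpowers_ne_bot.2 hm1)
    intro g hg
    refine hcent t (zpowers_le.2 hm htm) ht (mem_cent.2 ?_)
    obtain ⟨i, rfl⟩ := htm
    exact ((show Commute g m from mem_cent.1 hg).zpow_right i).eq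
  have hNtop : N ≠ ⊤ := fun e => hnn (normalizer_eq_top_iff.1 e)
  have h2P : 2 ∣ Nat.card (P : Subgroup G) := by
    have := Subgroup.orderOf_dvd_natCard _ haP
    rwa [ha.1] at this
  have h : H11.CTI.Even' (P : Subgroup G) := by
    refine ⟨hhall, heven, hcomp, ⟨a, haP, ha.1⟩, ?_, ?_⟩
    · refine (H65.se_iff hNtop (H65.even_card_of_mem (le_normalizer haP) ha.1)).2 ?_
      intro s g hs hsN hg
      have hs' : orderOf (g⁻¹ * s * g) = 2 := by
        simpa using H67.invol_conj hs g⁻¹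
      have h1 := hhall s hsN (by rw [hs]; exact h2P)
      have h3 := hhall _ hg (by rw [hs']; exact h2P)
      have h4 : g • P = P := hmeet P (g • P) s h1 (mem_smul_sylow.2 h3) (H65.ne_one_of_two hs)
      exact Sylow.smul_eq_iff_mem_normalizer.1 h4
    · obtain ⟨g, hg, hne⟩ := exists_fused hcore hnil P hnn ha haP (mem_omZ_of_good P ha haP) ha1
      exact ⟨a, haP, g * a * g⁻¹, hg.1, ha.1, H67.invol_conj ha.1 g, hne.symm⟩
  by_cases hab : ∀ x ∈ (P : Subgroup G), ∀ y ∈ (P : Subgroup G), x * y = y * x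
  · have hex := h.exponent_two_of_comm hab
    refine Or.inl ⟨H7.isElementaryAbelian_of_comm hab hex, fun x hx y hy hx1 hy1 => ?_⟩
    exact isConj_iff.1 (H67.se_isConj h.se (orderOf_eq_prime (hex x hx) hx1)
      (orderOf_eq_prime (hex y hy) hy1))
  · push Not at hab
    obtain ⟨u, v, -, -, hC, -⟩ := h.exists_ctx
    exact Or.inr (H11.SzUniq.ctx_isoSuzuki hC hab)

end H9.GI
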