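import Cfsg.Agent.H9.GI.Good

/-!
The hypotheses pass to quotients by odd normal subgroups (helper9).
-/

set_option autoImplicit false
set_option linter.style.haveILetI false
set_option linter.unusedSectionVars false

namespace H9.GI

open Subgroup

universe u

variable {K : Type u} [Group K] [Finite K] {N : Subgroup K} [N.Normal]

theorem eq_of_mem_zpowers {x y : K} (hx : orderOf x = 2) (hy : orderOf y = 2) (h : y ∈ zpowers x) :
    y = x := by
  obtain ⟨i, rfl⟩ := h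
  rcases Int.even_or_odd i with ⟨j, rfl⟩ | ⟨j, rfl⟩
  · have : x ^ (j + j) = 1 := by
      rw [zpow_add, ← (Commute.refl x).mul_zpow, H65.mul_self_of_two hx, one_zpow]
    simp only [this, orderOf_one] at hy
    omega
  · have : x ^ (2 * j + 1) = x := by
      rw [zpow_add_one, zpow_mul, show x ^ (2 : ℤ) = 1 by
        rw [zpow_two]; exact H65.mul_self_of_two hx, one_zpow, one_mul]
    exact this

theorem twoNil_quotient (hnil : TwoNil K) (hN : Odd (Nat.card N)) : TwoNil (K ⧸ N) := by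
  haveI : Fact (Nat.Prime 2) := ⟨Nat.prime_two⟩
  intro t ht
  obtain ⟨x₀, rfl⟩ := QuotientGroup.mk_surjective t
  have h0 : x₀ ^ 2 ∈ N := (QuotientGroup.eq_one_iff _).1 (by
    rw [QuotientGroup.mk_pow, ← ht, pow_orderOf_eq_one])
  have hx : (x₀ ^ Nat.card N) * (x₀ ^ Nat.card N) = 1 := by
    rw [← pow_two, ← pow_mul, mul_comm, pow_mul]
    exact congrArg Subtype.val (pow_card_eq_one' (x := (⟨x₀ ^ 2, h0⟩ : N)))
  set x := x₀ ^ Nat.card N with hxdef
  have hxt : (x : K ⧸ N) = (x₀ : K ⧸ N) := by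
    obtain ⟨j, hj⟩ := hN
    rw [hxdef, QuotientGroup.mk_pow, hj, pow_succ, pow_mul, ← ht, pow_orderOf_eq_one, one_pow,
      one_mul]
  have hx1 : x ≠ 1 := fun h => by
    rw [h, QuotientGroup.mk_one] at hxt
    rw [← hxt, orderOf_one] at ht
    omega
  have hx2 := two_of_sq hx hx1
  refine H5.hasNormalPComplement_of_surjective
    (f := ((QuotientGroup.mk' N).comp (centralizer ({x} : Set K)).subtype).codRestrict
      (centralizer ({(x₀ : K ⧸ N)} : Set (K ⧸ N)))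
      fun c => mem_cent.2 (by
        show ((c : K) : K ⧸ N) * x₀ = x₀ * ((c : K) : K ⧸ N)
        rw [← hxt, ← QuotientGroup.mk_mul, ← QuotientGroup.mk_mul, mem_cent.1 c.2])) ?_ (hnil x hx2)
  rintro ⟨c, hc⟩
  obtain ⟨g, rfl⟩ := QuotientGroup.mk_surjective c
  have hgc : ((g * x * g⁻¹ : K) : K ⧸ N) = (x : K ⧸ N) := by
    rw [QuotientGroup.mk_mul, QuotientGroup.mk_mul, QuotientGroup.mk_inv, hxt, mem_cent.1 hc,
      mul_inv_cancel_right]
  have hgN : g * x * g⁻¹ ∈ zpowers x ⊔ N := by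
    have h := QuotientGroup.eq.1 hgc.symm
    rw [show g * x * g⁻¹ = x * (x⁻¹ * (g * x * g⁻¹)) by group]
    exact mul_mem_sup (mem_zpowers x) h
  obtain ⟨o, ⟨ho, -⟩, hle⟩ := H9.NilHall.exists_conj_eq (K := ⊤) (R₂ := zpowers (g * x * g⁻¹)) hN
    (twoGroup_zpowers hx2) (by simp [normalizer_eq_top_iff.2 ‹N.Normal›]) le_top le_top
    (zpowers_le.2 hgN) (twoGroup_zpowers (H67.invol_conj hx2 g))
    (by rw [Nat.card_zpowers, Nat.card_zpowers, hx2, H67.invol_conj hx2 g])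
  have h1 : o * g * x * (o * g)⁻¹ = x := by
    refine eq_of_mem_zpowers hx2 (H67.invol_conj hx2 _) ?_
    simpa [mul_assoc] using hle _ (mem_zpowers _)
  refine ⟨⟨o * g, mem_cent.2 (mul_inv_eq_iff_eq_mul.1 h1)⟩, Subtype.ext ?_⟩
  show ((o * g : K) : K ⧸ N) = (g : K ⧸ N)
  rw [QuotientGroup.mk_mul, (QuotientGroup.eq_one_iff o).2 ho, one_mul]

theorem good_quotient (hN : Odd (Nat.card N)) {a : K} (ha : GoodInv a) :
    GoodInv (a : K ⧸ N) := by
  haveI : Fact (Nat.Prime 2) := ⟨Nat.prime_two⟩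
  refine ⟨two_of_sq (by rw [← QuotientGroup.mk_mul, H65.mul_self_of_two ha.1, QuotientGroup.mk_one])
    (fun h => H65.ne_one_of_two ha.1 (eq_one_of_odd_two hN (twoGroup_zpowers ha.1)
      ((QuotientGroup.eq_one_iff a).1 h) (mem_zpowers a))), fun Q hQ haQ y hy => ?_⟩
  obtain ⟨S⟩ : Nonempty (Sylow 2 K) := inferInstance
  obtain ⟨c, hc⟩ := exists_conj_mem (S.mapSurjective (QuotientGroup.mk'_surjective N)) hQ
  obtain ⟨g, rfl⟩ := QuotientGroup.mk_surjective c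
  have hsup : ∀ k : K, (k : K ⧸ N) ∈
      (S.mapSurjective (QuotientGroup.mk'_surjective N) : Subgroup (K ⧸ N)) →
      ∃ s ∈ (S : Subgroup K), (s : K ⧸ N) = (k : K ⧸ N) := fun k hk => hk
  obtain ⟨s₁, hs₁, e₁⟩ := hsup (g * a * g⁻¹) (hc _ haQ)
  have hmem : zpowers (g * a * g⁻¹) ≤ (S : Subgroup K) ⊔ N := zpowers_le.2 (by
    rw [show g * a * g⁻¹ = s₁ * (s₁⁻¹ * (g * a * g⁻¹)) by group]
    exact mul_mem_sup hs₁ (QuotientGroup.eq.1 e₁))
  obtain ⟨m, hm, hle⟩ := ((H82.sylow_sylowIn_top S).of_le le_sup_left le_top).exists_conj_le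
    (twoGroup_zpowers (ha.conj g).1) hmem
  obtain ⟨s, hs, o, ho, rfl⟩ := mem_sup_of_normal_right.1 hm
  have ha' := (ha.conj g).conj o
  have h1 : o * (g * a * g⁻¹) * o⁻¹ ∈ (S : Subgroup K) := by
    have h2 := hle (H82.mem_map_conj_iff.2
      (show (s * o)⁻¹ * (s * o * (g * a * g⁻¹) * (s * o)⁻¹) * (s * o) ∈ zpowers (g * a * g⁻¹) by
        rw [show (s * o)⁻¹ * (s * o * (g * a * g⁻¹) * (s * o)⁻¹) * (s * o) = g * a * g⁻¹ by group]
        exact mem_zpowers _))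
    have h3 := mul_mem (mul_mem (inv_mem hs) h2) hs
    simpa [mul_assoc] using h3
  obtain ⟨s₂, hs₂, e₂⟩ := hsup (g * y.out * g⁻¹) (by
    simpa using hc _ hy)
  have h4 := congrArg (QuotientGroup.mk' N) (ha'.2 _ S.2 h1 s₂ hs₂)
  have ho1 : (o : K ⧸ N) = 1 := (QuotientGroup.eq_one_iff o).2 ho
  simp only [map_mul, map_inv, QuotientGroup.mk'_apply, ho1, inv_one, one_mul, mul_one, e₂,
    QuotientGroup.mk_mul, QuotientGroup.mk_inv, QuotientGroup.out_eq'] at h4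
  have h5 : Commute ((g : K ⧸ N) * a * (g : K ⧸ N)⁻¹) ((g : K ⧸ N) * y * (g : K ⧸ N)⁻¹) := h4
  have h6 := h5.map (MulAut.conj (g : K ⧸ N)⁻¹).toMonoidHom
  simpa [mul_assoc] using h6.eq

end H9.GI
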