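import Cfsg.Agent.H9.GI.Good
import Cfsg.Agent.H7.SFT.Consequences
import Cfsg.Agent.H16.OddOrder
import Cfsg.Agent.H8.Coprime

/-!
The odd signalizer in the presence of an elementary group of order eight (helper9).
-/

set_option autoImplicit false
set_option linter.style.haveILetI false
set_option linter.unusedSectionVars false

namespace H9.GI

open Subgroup
open scoped Pointwise

universe u

variable {G : Type u} [Group G] [Finite G]

/-- The subgroup generated by the odd cores of the centralisers of the elements of `A`. -/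
def sigW (A : Subgroup G) : Subgroup G :=
  Cfsg.signalizerClosure A (fun x => Cfsg.centralizerPPrimeCore 2 x)

theorem theta_le_sigW {A : Subgroup G} {b : G} (hb : b ∈ A) (hb1 : b ≠ 1) :
    Cfsg.centralizerPPrimeCore 2 b ≤ sigW A :=
  le_iSup (fun b : {b : G // b ∈ A ∧ b ≠ 1} => Cfsg.centralizerPPrimeCore 2 (b : G)) ⟨b, hb, hb1⟩

theorem sigW_mono {A E : Subgroup G} (h : A ≤ E) : sigW A ≤ sigW E :=
  iSup_le fun b => theta_le_sigW (h b.2.1) b.2.2

theorem normalizer_le_sigW (A : Subgroup G) :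
    normalizer (A : Set G) ≤ normalizer ((sigW A : Subgroup G) : Set G) := by
  intro g hg
  refine H82.mem_normalizer_of_map_le ?_
  show (⨆ b : {b : G // b ∈ A ∧ b ≠ 1}, Cfsg.centralizerPPrimeCore 2 (b : G)).map _ ≤ _
  rw [Subgroup.map_iSup]
  refine iSup_le fun b => ?_
  rw [← H7.centralizerPPrimeCore_conj_eq]
  exact theta_le_sigW ((mem_normalizer_iff.1 hg b).1 b.2.1) (by simpa using b.2.2)

theorem odd_sigW (hnil : TwoNil G) {E : Subgroup G} (hE : Cfsg.IsElementaryAbelian 2 E)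
    (hE8 : 2 ^ 3 ≤ Nat.card E) : Odd (Nat.card (sigW E)) := by
  haveI : Fact (Nat.Prime 2) := ⟨Nat.prime_two⟩
  have hc := H7.comm_of_isElementaryAbelian hE
  have hfun : Cfsg.IsSolvableSignalizerFunctor 2 E (fun x => Cfsg.centralizerPPrimeCore 2 x) := by
    refine ⟨⟨fun b _ _ => H7.centralizerPPrimeCore_le 2 b,
      fun b _ _ => H7.not_dvd_centralizerPPrimeCore b, fun b hb _ c hce x hx => ?_,
      fun b hb _ c hce hc1 => ?_⟩, fun b _ _ => H16.FT.oddOrder (odd_theta b)⟩
    · exact (mem_normalizer_iff.1 (H7.centralizer_le_normalizer_centralizerPPrimeCore 2 b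
        (mem_cent.2 (hc c hce b hb))) x).1 hx
    · intro x hx
      exact le_theta (hnil c (two_of_sq (by rw [← pow_two]; exact hE.2 c hce) hc1))
        ((odd_theta b).of_dvd_nat (Subgroup.orderOf_dvd_natCard _ hx.1)) (mem_cent.1 hx.2)
  exact Nat.odd_iff.2 (Nat.two_dvd_ne_zero.1
    (H7.SFT.completeSolvableFunctors (p := 2) _ E hc hE.2 hE8 hfun).1)

variable (hnil : TwoNil G) (P : Sylow 2 G) {a : G} (ha : GoodInv a) (haP : a ∈ (P : Subgroup G))

include hnil ha haP

theorem theta_le_of_mem (hA4 : 4 ≤ Nat.card (omZ (P : Subgroup G))) {y : G}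
    (hy : y ∈ (P : Subgroup G)) (hy2 : orderOf y = 2) :
    Cfsg.centralizerPPrimeCore 2 y ≤ sigW (omZ (P : Subgroup G)) := by
  haveI : Fact (Nat.Prime 2) := ⟨Nat.prime_two⟩
  refine H8.generation_elements (omZ_ea (P : Subgroup G)) hA4 ?_
    (H7.not_dvd_centralizerPPrimeCore y) fun b hb hb1 => ?_
  · exact fun z hz => H7.centralizer_le_normalizer_centralizerPPrimeCore 2 y
      (mem_cent.2 (hz.2.2 y hy))
  · intro x hx
    exact theta_le_sigW hb hb1 (le_theta (hnil b (two_of_sq hb.2.1 hb1))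
      ((odd_theta y).of_dvd_nat (Subgroup.orderOf_dvd_natCard _ hx.1)) (mem_cent.1 hx.2))

theorem cent_omZ_le {g : G} (hg : ∀ z ∈ omZ (P : Subgroup G), g * z = z * g) :
    g ∈ sigW (omZ (P : Subgroup G)) ⊔ (P : Subgroup G) := by
  have hm := mem_omZ_of_good P ha haP
  obtain ⟨o, ho, s, hs, rfl⟩ :=
    cent_decomp (hnil a ha.1) (sylowIn_cent P (good_central ha P haP)) (hg a hm)
  exact mul_mem_sup (theta_le_sigW hm (H65.ne_one_of_two ha.1) ho) hs

theorem cent_le (hA4 : 4 ≤ Nat.card (omZ (P : Subgroup G))) {y : G}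
    (hy : y ∈ (P : Subgroup G)) (hy2 : orderOf y = 2) :
    centralizer ({y} : Set G) ≤ sigW (omZ (P : Subgroup G)) ⊔ (P : Subgroup G) := by
  haveI : Fact (Nat.Prime 2) := ⟨Nat.prime_two⟩
  set A := omZ (P : Subgroup G) with hA
  obtain ⟨S, hS, hQS⟩ := H82.exists_sylowIn_ge
    (P.2.to_le (sup_le (omZ_le _) (zpowers_le.2 hy)) : IsPGroup 2 ↥(A ⊔ zpowers y))
    (sup_le (fun z hz => mem_cent.2 (hz.2.2 y hy)) (zpowers_le.2 (mem_cent.2 rfl)) :
      A ⊔ zpowers y ≤ centralizer ({y} : Set G))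
  obtain ⟨h, hh⟩ := exists_conj_mem P hS.isPGroup
  have hN := mem_normalizer_omZ hnil P ha haP
    (fun z hz => hh z (hQS (mem_sup_left hz)))
  intro g hg
  obtain ⟨o, ho, s, hs, rfl⟩ := cent_decomp (hnil y hy2) hS (mem_cent.1 hg)
  refine mul_mem (mem_sup_left (theta_le_of_mem hnil P ha haP hA4 hy hy2 ho))
    (cent_omZ_le hnil P ha haP fun z hz => ?_)
  have h1 : Commute (h * s * h⁻¹) (h * z * h⁻¹) :=
    (((mem_normalizer_iff.1 hN z).1 hz).2.2 _ (hh s hs)).symm
  have h2 := h1.map (MulAut.conj h⁻¹).toMonoidHom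
  simpa [mul_assoc] using h2.eq

end H9.GI
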