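import Cfsg.Agent.H61.GI.Defs
import Cfsg.Agent.H9.GI.Rank
import Cfsg.Agent.H9.GI.Quot
import Cfsg.Agent.H9.GI.CIT
import Cfsg.Agent.H13.Correspondence

/-!
The strongly embedded subgroup given by a nontrivial signalizer, and the data of the smaller
sections used for it (helper9).
-/

set_option autoImplicit false
set_option linter.style.haveILetI false
set_option linter.unusedSectionVars false

open scoped ComplexConjugate

namespace H9.GI

open Subgroup

universe u

/-- The inductive claim. -/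
def MainStmt (L : Type u) [Group L] : Prop :=
  Cfsg.pPrimeCore 2 L = ⊥ → TwoNil L → ∀ S : Sylow 2 L, ¬ (S : Subgroup L).Normal →
    (∃ t ∈ (S : Subgroup L), GoodInv t) → ElemOne (S : Subgroup L) ∨ Cfsg.Lie.IsoSuzuki L

/-- Sylow 2-subgroups of Suzuki groups have the character. -/
def SzSupply : Prop :=
  ∀ (L : Type u) [Group L] [Finite L], Cfsg.Lie.IsoSuzuki L → ∀ S : Sylow 2 L,
    H61.GI.SzChar ↥(S : Subgroup L)

theorem szChar_congr {P Q : Type u} [Group P] [Group Q] (e : P ≃* Q)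
    (h : H61.GI.SzChar P) : H61.GI.SzChar Q := by
  have hset : Nat.card {x : Q // x * x = 1} = Nat.card {x : P // x * x = 1} :=
    Nat.card_congr ((e.toEquiv.subtypeEquiv fun x => by
      show x * x = 1 ↔ e x * e x = 1
      rw [← map_mul, EmbeddingLike.map_eq_one_iff]).symm)
  refine ⟨by rw [← Nat.card_congr e.toEquiv, h.1, hset], fun {inst} => ?_⟩
  letI := Fintype.ofEquiv Q e.symm.toEquiv
  obtain ⟨χ, d, h1, h2, h3, h4⟩ := @h.2 this
  refine ⟨⟨_, H13.isIrrCharacter_comp_equiv e.symm χ.2⟩, d, ?_, by rw [hset]; exact h2, ?_, ?_⟩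
  · show (χ : P → ℂ) (e.symm 1) = _
    rw [map_one, h1]
  · intro x hx
    refine h3 (e.symm x) fun hh => hx (e.symm.injective ?_)
    rw [map_mul, hh, map_one]
  · have him : {x : Q | x * x = 1} = e '' {x : P | x * x = 1} := by
      ext x
      constructor
      · intro hx
        exact ⟨e.symm x, by show e.symm x * e.symm x = 1; rw [← map_mul, hx, map_one],
          e.apply_symm_apply x⟩
      · rintro ⟨y, hy, rfl⟩
        show e y * e y = 1
        rw [← map_mul, hy, map_one]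
    rw [him, finsum_mem_image e.injective.injOn]
    simpa using h4

variable {G : Type u} [Group G] [Finite G]

theorem emb_false (hgood : ∀ (H W T : Subgroup G), H61.GI.Setup G H W T → H61.GI.Oracle H W T →
      H61.GI.Good H W)
    (hsz : SzSupply.{u})
    (ih : ∀ (L : Type u) [Group L] [Finite L], Nat.card L < Nat.card G → MainStmt L)
    (hcore : Cfsg.pPrimeCore 2 G = ⊥) (hnil : TwoNil G) (P : Sylow 2 G)
    (hnn : ¬ (P : Subgroup G).Normal) {a : G} (ha : GoodInv a) (haP : a ∈ (P : Subgroup G))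
    {E : Subgroup G} (hE : Cfsg.IsElementaryAbelian 2 E) (hE8 : 2 ^ 3 ≤ Nat.card E)
    (hAE : omZ (P : Subgroup G) ≤ E)
    (hW : sigW (omZ (P : Subgroup G)) ≠ ⊥) : False := by
  haveI : Fact (Nat.Prime 2) := ⟨Nat.prime_two⟩
  set A := omZ (P : Subgroup G) with hA
  set W := sigW A with hWdef
  have hA4 : 4 ≤ Nat.card A := four_le_omZ hcore hnil P hnn ha haP
  have hWodd : Odd (Nat.card W) :=
    (odd_sigW hnil hE hE8).of_dvd_nat (card_dvd_of_le (sigW_mono hAE))
  have hNW : normalizer ((P : Subgroup G) : Set G) ≤ normalizer (W : Set G) :=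
    (normalizer_le_omZ hnil P ha haP).trans (normalizer_le_sigW A)
  set H := W ⊔ normalizer ((P : Subgroup G) : Set G) with hH
  have hWH : W ≤ H := le_sup_left
  have hPH : (P : Subgroup G) ≤ H := le_normalizer.trans le_sup_right
  have hWP : W ⊔ (P : Subgroup G) ≤ H := sup_le hWH hPH
  have hHN : H ≤ normalizer (W : Set G) := sup_le le_normalizer hNW
  have hHtop : H ≠ ⊤ := fun e => hW (by
    haveI : W.Normal := normalizer_eq_top_iff.1 (top_le_iff.1 (e ▸ hHN))
    have := H1.le_pPrimeCore (p := 2) (N := W) (Nat.coprime_two_right.2 hWodd)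
    rwa [hcore, le_bot_iff] at this)
  have hdec : ∀ h ∈ H, ∃ w ∈ W, ∃ n ∈ normalizer ((P : Subgroup G) : Set G), h = w * n :=
    fun h hh => by
      obtain ⟨w, hw, n, hn, e⟩ := H1.exists_mul_of_mem_sup hNW hh
      exact ⟨w, hw, n, hn, e⟩
  have hC : ∀ y ∈ (P : Subgroup G), orderOf y = 2 →
      centralizer ({y} : Set G) ≤ W ⊔ (P : Subgroup G) :=
    fun y hy hy2 => cent_le hnil P ha haP hA4 hy hy2
  have hPin : H82.SylowIn 2 (P : Subgroup G) H := (H82.sylow_sylowIn_top P).of_le hPH le_top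
  have hconjH : ∀ Q : Subgroup G, IsPGroup 2 Q → Q ≤ H →
      ∃ h ∈ H, ∀ x ∈ Q, h * x * h⁻¹ ∈ (P : Subgroup G) := fun Q hQ hQH => by
    obtain ⟨h, hh, hle⟩ := hPin.exists_conj_le hQ hQH
    exact ⟨h, hh, fun x hx => hle (H82.mem_map_conj_iff.2 (by simpa [mul_assoc] using hx))⟩
  have hNA : normalizer (A : Set G) ≤ H := by
    intro n hn
    have hle : (P : Subgroup G).map (MulAut.conj n).toMonoidHom ≤ W ⊔ (P : Subgroup G) := by
      rintro _ ⟨x, hx, rfl⟩
      refine cent_omZ_le hnil P ha haP fun z hz => ?_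
      have h1 : Commute (n⁻¹ * z * n) x := (((mem_normalizer_iff''.1 hn z).1 hz).2.2 x hx)
      have h2 := (h1.map (MulAut.conj n).toMonoidHom).symm
      simpa [mul_assoc] using h2.eq
    obtain ⟨m, hm, hmle⟩ := ((H82.sylow_sylowIn_top P).of_le le_sup_right le_top).exists_conj_le
      (P.2.map _) hle
    rw [← H82.map_conj_mul] at hmle
    have : m * n ∈ H := mem_sup_right (H82.mem_normalizer_of_map_le hmle)
    exact (mul_mem_cancel_left (hWP hm)).1 this
  have hcentH : ∀ t ∈ H, orderOf t = 2 → ∀ x : G, x * t = t * x → x ∈ H := by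
    intro t htH ht x hx
    obtain ⟨h, hh, hhP⟩ := hconjH _ (twoGroup_zpowers ht) (zpowers_le.2 htH)
    have := hWP (hC _ (hhP t (mem_zpowers t)) (H67.invol_conj ht h)
      (mem_cent.2 (show h * x * h⁻¹ * (h * t * h⁻¹) = h * t * h⁻¹ * (h * x * h⁻¹) by
        simpa [mul_assoc] using congrArg (fun z => h * z * h⁻¹) hx)))
    have h' := mul_mem (mul_mem (inv_mem hh) this) hh
    simpa [mul_assoc] using h'
  have hse : Cfsg.IsStronglyEmbedded H := by
    refine (H65.se_iff hHtop (H65.even_card_of_mem (hPH haP) ha.1)).2 ?_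
    intro t g ht htH hg
    obtain ⟨h, hh, hhP⟩ := hconjH _ (twoGroup_zpowers ht) (zpowers_le.2 htH)
    have ht0 : h * t * h⁻¹ ∈ (P : Subgroup G) := hhP t (mem_zpowers t)
    set c := g⁻¹ * h⁻¹ with hc
    have hAc : A.map (MulAut.conj c).toMonoidHom ≤ H := by
      rintro _ ⟨z, hz, rfl⟩
      refine hcentH _ hg (by simpa using H67.invol_conj ht g⁻¹) _ ?_
      have h1 : Commute z (h * t * h⁻¹) := hz.2.2 _ ht0
      have h2 := h1.map (MulAut.conj c).toMonoidHom
      simpa [hc, mul_assoc] using h2.eq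
    obtain ⟨h', hh', hh'P⟩ := hconjH _ ((P.2.to_le (omZ_le _)).map _) hAc
    have hN' : h' * c ∈ normalizer (A : Set G) :=
      mem_normalizer_omZ hnil P ha haP fun z hz => by
        simpa [mul_assoc] using hh'P _ (mem_map_of_mem _ hz)
    have hcH : c ∈ H := (mul_mem_cancel_left hh').1 (hNA hN')
    exact inv_mem_iff.1 ((mul_mem_cancel_right (inv_mem hh)).1 hcH)
  have hinv : ∀ y ∈ (P : Subgroup G), orderOf y = 2 → y ∈ A := by
    intro y hy hy2
    obtain ⟨g, rfl⟩ := isConj_iff.1 (H67.se_isConj hse ha.1 hy2)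
    exact mem_omZ_of_good P (ha.conj g) hy
  have htriv : ∀ x ∈ W ⊔ (P : Subgroup G), H61.GI.Triv W A x := by
    intro x hx s hs
    obtain ⟨w, hw, p, hp, rfl⟩ := H1.exists_mul_of_mem_sup (le_normalizer.trans hNW) hx
    have hs' : s⁻¹ = s := inv_eq_of_mul_eq_one_right hs.2.1
    rw [show w * p * s * (w * p)⁻¹ * s = w * (p * s * p⁻¹ * w⁻¹ * s) by group,
      ← hs.2.2 p hp, mul_inv_cancel_right]
    refine mul_mem hw ?_
    have := (mem_normalizer_iff.1 (hNW (le_normalizer (omZ_le _ hs))) _).1 (inv_mem hw)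
    rwa [hs'] at this
  have hfix : ∀ h ∈ H, ∀ t ∈ A, t ≠ 1 → h * t * h⁻¹ * t ∈ W → h ∈ W ⊔ (P : Subgroup G) := by
    intro h hh t ht ht1 hht
    obtain ⟨w, hw, n, hn, rfl⟩ := hdec h hh
    set t' := n * t * n⁻¹ with ht'
    have ht'A : t' ∈ A := (mem_normalizer_iff.1 (normalizer_le_omZ hnil P ha haP hn) t).1 ht
    have h1 := mul_mem (mul_mem (inv_mem hw) hht)
      ((mem_normalizer_iff.1 (hNW (le_normalizer (omZ_le _ ht))) w).1 hw)
    rw [show w⁻¹ * (w * n * t * (w * n)⁻¹ * t) * (t * w * t⁻¹) = t' * w⁻¹ * (t * t) * w * t⁻¹ by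
      rw [ht']; group, ht.2.1, mul_one, inv_mul_cancel_right] at h1
    have h2 := eq_one_of_odd_two hWodd P.2 h1 (mul_mem ht'A.1 (inv_mem ht.1))
    have h3 : n * t * n⁻¹ = t := mul_inv_eq_one.1 h2
    exact mul_mem (mem_sup_left hw) (hC t ht.1 (two_of_sq ht.2.1 ht1)
      (mem_cent.2 (mul_inv_eq_iff_eq_mul.1 h3)))
  have hsetup : H61.GI.Setup G H W A := by
    refine ⟨hse, hWH, fun h hh w hw => (mem_normalizer_iff.1 (hHN hh) w).1 hw, hWodd,
      (omZ_le _).trans hPH, fun s hs => hs.2.1, hA4, ?_,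
      fun h hh t ht ht1 hht => htriv h (hfix h hh t ht ht1 hht), ?_⟩
    · intro i hi hi2
      obtain ⟨h, hh, hhP⟩ := hconjH _ (twoGroup_zpowers hi2) (zpowers_le.2 hi)
      have hs := hinv _ (hhP i (mem_zpowers i)) (H67.invol_conj hi2 h)
      obtain ⟨w, hw, n, hn, e⟩ := hdec h⁻¹ (inv_mem hh)
      have hs' : n * (h * i * h⁻¹) * n⁻¹ ∈ A :=
        (mem_normalizer_iff.1 (normalizer_le_omZ hnil P ha haP hn) _).1 hs
      set s := n * (h * i * h⁻¹) * n⁻¹ with hsdef
      have hie : i = w * s * w⁻¹ := by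
        obtain ⟨u, hu⟩ : ∃ u, u = h * i * h⁻¹ := ⟨_, rfl⟩
        calc i = h⁻¹ * u * (h⁻¹)⁻¹ := by rw [hu]; group
          _ = _ := by rw [hsdef, ← hu, e]; group
      refine ⟨s, hs', ?_⟩
      rw [hie, show w * s * w⁻¹ * s = w * (s * w⁻¹ * s) by group]
      refine mul_mem hw ?_
      have := (mem_normalizer_iff.1 (hNW (le_normalizer (omZ_le _ hs'))) _).1 (inv_mem hw)
      rwa [inv_eq_of_mul_eq_one_right hs'.2.1] at this
    · intro h hh hodd htr
      have hmA := mem_omZ_of_good P ha haP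
      have hmem := hfix h hh a hmA (H65.ne_one_of_two ha.1) (htr a hmA)
      obtain ⟨w, hw, p, hp, rfl⟩ := H1.exists_mul_of_mem_sup (le_normalizer.trans hNW) hmem
      have hpow : ∀ k : ℕ, ∃ w' ∈ W, (w * p) ^ k = w' * p ^ k := by
        intro k
        induction k with
        | zero => exact ⟨1, one_mem _, by simp⟩
        | succ k hk =>
          obtain ⟨w', hw', e⟩ := hk
          refine ⟨w' * (p ^ k * w * (p ^ k)⁻¹), mul_mem hw' ((mem_normalizer_iff.1
            (hNW (le_normalizer (pow_mem hp k))) w).1 hw), ?_⟩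
          rw [pow_succ, e, pow_succ]
          group
      obtain ⟨i, hi⟩ := P.2 ⟨p, hp⟩
      have hp2 : p ^ 2 ^ i = 1 := congrArg Subtype.val hi
      obtain ⟨w', hw', e⟩ := hpow (2 ^ i)
      rw [hp2, mul_one] at e
      obtain ⟨m, hm⟩ := exists_pow_eq_self_of_coprime
        ((Nat.coprime_two_left.2 hodd).pow_left i : Nat.Coprime (2 ^ i) (orderOf (w * p)))
      rw [← hm, e]
      exact pow_mem hw' m
  have horacle : H61.GI.Oracle H W A := by
    intro M hMtop hMH w hw hTM P' hP' hTP'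
    set T := A.map (MulAut.conj w).toMonoidHom with hT
    have hwH : w ∈ H := hWH hw
    have hgoodT : ∀ t ∈ T, t ≠ 1 → GoodInv t := by
      rintro _ ⟨z, hz, rfl⟩ ht1
      exact (omZ_good hnil P ha haP hz (by rintro rfl; simp at ht1)).conj w
    have hP'H : P' ≤ H := hP'.le.trans inf_le_left
    have hP'M : P' ≤ M := hP'.le.trans inf_le_right
    have hinv' : ∀ y ∈ P', y * y = 1 → y ∈ T := by
      intro y hy hy2
      by_cases hy1 : y = 1
      · rw [hy1]; exact one_mem _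
      obtain ⟨h, hh, hhP⟩ := hconjH (P'.map (MulAut.conj w⁻¹).toMonoidHom) (hP'.isPGroup.map _)
        (H82.map_conj_le_of_mem (inv_mem hwH) hP'H)
      have hhA : h ∈ normalizer (A : Set G) := mem_normalizer_omZ hnil P ha haP fun z hz =>
        hhP z (H82.mem_map_conj_iff.2 (hTP' (by
          rw [inv_inv]; exact ⟨z, hz, rfl⟩)))
      have h1 := hinv _ (hhP (w⁻¹ * y * w) (H82.mem_map_conj_iff.2 (by simpa [mul_assoc] using hy)))
        (by simpa [mul_assoc] using H67.invol_conj (two_of_sq hy2 hy1) (h * w⁻¹))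
      exact H82.mem_map_conj_iff.2 ((mem_normalizer_iff.1 hhA _).2 h1)
    obtain ⟨t₀, ht₀, ht₀1⟩ : ∃ t ∈ T, t ≠ 1 := by
      refine ⟨w * a * w⁻¹, ⟨a, mem_omZ_of_good P ha haP, rfl⟩, ?_⟩
      exact H65.ne_one_of_two (ha.conj w).1
    have hTH : T ≤ H := hTP'.trans hP'H
    have hnormH : ∀ g : G, g ∈ normalizer (P' : Set G) → g ∈ H := fun g hg =>
      H65.se_conj_mem hse (hgoodT _ ht₀ ht₀1).1 (hTH ht₀)
        (hP'H ((mem_normalizer_iff''.1 hg t₀).1 (hTP' ht₀)))
    have hP'syl : H82.SylowIn 2 P' M := by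
      obtain ⟨R, hR, hPR⟩ := H82.exists_sylowIn_ge hP'.isPGroup hP'M
      by_cases hRP : R = P'
      · exact hRP ▸ hR
      obtain ⟨x, hxR, hxP, hxN⟩ :=
        H65.exists_normalizing_not_mem hR.isPGroup hPR (Ne.symm hRP)
      refine absurd ?_ hxP
      have h1 : P' ⊔ zpowers x ≤ H ⊓ M :=
        sup_le hP'.le (zpowers_le.2 ⟨hnormH x hxN, hR.le hxR⟩)
      have h2 := hP'.eq_of_le (hR.isPGroup.to_le (sup_le hPR (zpowers_le.2 hxR))) h1 le_sup_left
      exact h2 ▸ mem_sup_right (mem_zpowers x)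
    haveI hcn : (Cfsg.pPrimeCore 2 M).Normal := H1.pPrimeCore_normal' 2 M
    set Nc := (Cfsg.pPrimeCore 2 M).map M.subtype with hNc
    have hNcodd : Odd (Nat.card Nc) := by
      rw [hNc, card_map_of_injective M.subtype_injective]
      exact Nat.coprime_two_right.1 (H1.card_pPrimeCore_coprime 2 M)
    have hMN : M ≤ normalizer (Nc : Set G) := fun g hg => H82.mem_normalizer_of_map_le (by
      rintro _ ⟨_, ⟨c, hc, rfl⟩, rfl⟩
      exact ⟨(⟨g, hg⟩ : M) * c * (⟨g, hg⟩ : M)⁻¹, hcn.conj_mem c hc _, rfl⟩)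
    have hTea : Cfsg.IsElementaryAbelian 2 T :=
      H7.isElementaryAbelian_of_comm (fun x hx y hy => by
        obtain ⟨z, hz, rfl⟩ := hx; obtain ⟨v, hv, rfl⟩ := hy
        rw [← map_mul, ← map_mul, hz.2.2 v hv.1])
        fun x hx => by
          obtain ⟨z, hz, rfl⟩ := hx
          rw [← map_pow, pow_two, hz.2.1, map_one]
    have hNcW : Nc ≤ W := by
      refine H8.generation_elements hTea (by rw [hT, H82.card_map_conj]; exact hA4)
        (hTM.trans hMN) (fun h => (Nat.not_even_iff_odd.2 hNcodd) (even_iff_two_dvd.2 h))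
        fun t ht ht1 x hx => ?_
      have hmem := le_theta (hnil t (hgoodT t ht ht1).1)
        (hNcodd.of_dvd_nat (Subgroup.orderOf_dvd_natCard _ hx.1)) (mem_cent.1 hx.2)
      obtain ⟨z, hz, rfl⟩ := ht
      have hz1 : z ≠ 1 := by rintro rfl; simp at ht1
      rw [show (MulAut.conj w).toMonoidHom z = w * z * w⁻¹ from rfl,
        H7.centralizerPPrimeCore_conj_eq] at hmem
      obtain ⟨v, hv, rfl⟩ := hmem
      exact mul_mem (mul_mem hw (theta_le_sigW hz hz1 hv)) (inv_mem hw)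
    obtain ⟨Q, hQ⟩ := hP'syl.exists_sylow
    have hπ := QuotientGroup.mk'_surjective (Cfsg.pPrimeCore 2 M)
    have hmemQ : ∀ x (hx : x ∈ P'), (⟨x, hP'M hx⟩ : M) ∈ (Q : Subgroup M) := fun x hx => by
      have hx' : x ∈ (Q : Subgroup M).map M.subtype := hQ.symm ▸ hx
      obtain ⟨⟨y, hy⟩, hyQ, rfl⟩ := hx'
      exact hyQ
    have hQmem : ∀ q ∈ (Q : Subgroup M), (q : G) ∈ P' := fun q hq => hQ ▸ ⟨q, hq, rfl⟩
    have hcodd : Odd (Nat.card (Cfsg.pPrimeCore 2 M)) :=
      Nat.coprime_two_right.1 (H1.card_pPrimeCore_coprime 2 M)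
    have hnn' : ¬ ((Q.mapSurjective hπ : Sylow 2 (M ⧸ Cfsg.pPrimeCore 2 M)) :
        Subgroup (M ⧸ Cfsg.pPrimeCore 2 M)).Normal := by
      intro hn
      refine hMH fun g hg => ?_
      have hle : P'.map (MulAut.conj g).toMonoidHom ≤ P' ⊔ Nc := by
        rintro _ ⟨x, hx, rfl⟩
        have h1 := hn.conj_mem _ (mem_map_of_mem (QuotientGroup.mk' (Cfsg.pPrimeCore 2 M))
          (hmemQ x hx)) (QuotientGroup.mk' _ ⟨g, hg⟩)
        rw [← map_inv, ← map_mul, ← map_mul] at h1
        obtain ⟨q, hq, e⟩ := h1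
        show g * x * g⁻¹ ∈ P' ⊔ Nc
        rw [show g * x * g⁻¹ = (q : G) * ((q : G)⁻¹ * (g * x * g⁻¹)) by group]
        exact mul_mem_sup (hQmem q hq) ⟨_, QuotientGroup.eq.1 e, rfl⟩
      obtain ⟨o, ⟨ho, -⟩, hc⟩ := H9.NilHall.exists_conj_eq (K := ⊤) hNcodd hP'.isPGroup
        (hP'M.trans hMN) le_top le_top hle (hP'.isPGroup.map _) (H82.card_map_conj P' g)
      have h2 : o * g ∈ H := hnormH _ (H82.mem_normalizer_of_map_le (by
        rintro _ ⟨x, hx, rfl⟩
        simpa [mul_assoc] using hc _ (mem_map_of_mem _ hx)))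
      exact (mul_mem_cancel_left (hWH (hNcW ho))).1 h2
    have hlt : Nat.card (M ⧸ Cfsg.pPrimeCore 2 M) < Nat.card G :=
      lt_of_le_of_lt (Nat.card_le_card_of_surjective _ hπ)
        (lt_of_le_of_ne (card_le_card_group M) fun e => hMtop (eq_top_of_card_eq M e))
    have hgt : GoodInv (⟨t₀, hTM ht₀⟩ : M) := by
      refine ⟨by rw [orderOf_mk]; exact (hgoodT _ ht₀ ht₀1).1, fun R hR hmem x hx => Subtype.ext ?_⟩
      exact (hgoodT _ ht₀ ht₀1).2 (R.map M.subtype) (hR.map _) ⟨_, hmem, rfl⟩ x ⟨x, hx, rfl⟩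
    have hq := ih (M ⧸ Cfsg.pPrimeCore 2 M) hlt (H1.pPrimeCore_quotient_pPrimeCore 2)
      (twoNil_quotient (twoNil_subgroup hnil M) hcodd) (Q.mapSurjective hπ) hnn'
      ⟨_, mem_map_of_mem _ (hmemQ t₀ (hTP' ht₀)), good_quotient hcodd hgt⟩
    rcases hq with hel | hsuz
    · refine Or.inl (congrArg (fun K : Subgroup G => Nat.card K) (le_antisymm ?_ hTP'))
      intro x hx
      refine hinv' x hx (eq_one_of_odd_two hNcodd hP'.isPGroup ?_ (mul_mem hx hx))
      have h1 := hel.1.2 _ (mem_map_of_mem (QuotientGroup.mk' (Cfsg.pPrimeCore 2 M)) (hmemQ x hx))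
      rw [← map_pow, pow_two] at h1
      exact ⟨_, (QuotientGroup.eq_one_iff _).1 h1, rfl⟩
    · refine Or.inr ?_
      have hinj : Function.Injective
          ((QuotientGroup.mk' (Cfsg.pPrimeCore 2 M)).subgroupMap (Q : Subgroup M)) := by
        refine (injective_iff_map_eq_one _).2 fun q hq => Subtype.ext ?_
        exact eq_one_of_odd_two hcodd Q.2 ((QuotientGroup.eq_one_iff _).1 (congrArg Subtype.val hq))
          q.2
      have e1 : ↥(Q : Subgroup M) ≃* ↥(Q.mapSurjective hπ : Subgroup (M ⧸ Cfsg.pPrimeCore 2 M)) :=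
        MulEquiv.ofBijective _ ⟨hinj, MonoidHom.subgroupMap_surjective _ _⟩
      have e2 : ↥(Q : Subgroup M) ≃* ↥P' :=
        ((Q : Subgroup M).equivMapOfInjective M.subtype M.subtype_injective).trans
          (MulEquiv.subgroupCongr hQ)
      exact szChar_congr (e1.symm.trans e2) (hsz _ hsuz _)
  have hle : W ≤ H.normalCore := hgood H W A hsetup horacle
  haveI := H.normalCore_normal
  have hodd : Odd (Nat.card H.normalCore) := by
    rw [← Nat.not_even_iff_odd]
    intro hev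
    obtain ⟨t, htK, ht⟩ := H65.exists_two_mem hev
    refine hHtop (eq_top_iff.2 fun g _ => H65.se_conj_mem hse ht (normalCore_le H htK) ?_)
    simpa using normalCore_le H (H.normalCore_normal.conj_mem t htK g⁻¹)
  have h1 := H1.le_pPrimeCore (p := 2) (N := H.normalCore) (Nat.coprime_two_right.2 hodd)
  rw [hcore, le_bot_iff] at h1
  exact hW (le_bot_iff.1 (h1 ▸ hle))

end H9.GI
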