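import Cfsg.Agent.H9.GI.Basic
import Cfsg.Agent.H2.FrobeniusBasic

/-!
The elementary group of good involutions of a Sylow 2-subgroup, and Glauberman's Z*-theorem
applied to it (helper9).
-/

set_option autoImplicit false
set_option linter.style.haveILetI false
set_option linter.unusedSectionVars false

namespace H9.GI

open Subgroup
open scoped Pointwise

universe u

variable {G : Type u} [Group G] [Finite G]

theorem mem_smul_sylow {P : Sylow 2 G} {g x : G} :
    x ∈ ((g • P : Sylow 2 G) : Subgroup G) ↔ g⁻¹ * x * g ∈ (P : Subgroup G) := by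
  rw [Sylow.coe_subgroup_smul]
  exact H2.mem_conj_smul

theorem central_of_conj (hnil : TwoNil G) (P : Sylow 2 G) {a : G} (ha : GoodInv a)
    (haP : a ∈ (P : Subgroup G)) {z : G} (hz : z ∈ omZ (P : Subgroup G)) (hz1 : z ≠ 1) {g : G}
    (hu : g * z * g⁻¹ ∈ (P : Subgroup G)) :
    ∀ y ∈ (P : Subgroup G), g * z * g⁻¹ * y = y * (g * z * g⁻¹) := by
  haveI : Fact (Nat.Prime 2) := ⟨Nat.prime_two⟩
  set u := g * z * g⁻¹ with hudef
  have hu2 : orderOf u = 2 := H67.invol_conj (two_of_sq hz.2.1 hz1) g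
  have hgu : u ∈ ((g • P : Sylow 2 G) : Subgroup G) :=
    mem_smul_sylow.2 (by simpa [hudef, mul_assoc] using hz.1)
  have hgc : ∀ x ∈ ((g • P : Sylow 2 G) : Subgroup G), x * u = u * x := fun x hx => by
    have h := hz.2.2 _ (mem_smul_sylow.1 hx)
    calc x * u = g * (g⁻¹ * x * g * z) * g⁻¹ := by rw [hudef]; group
      _ = g * (z * (g⁻¹ * x * g)) * g⁻¹ := by rw [h]
      _ = u * x := by rw [hudef]; group
  have hau : zpowers a ≤ centralizer ({u} : Set G) :=
    zpowers_le.2 (mem_cent.2 (good_central ha P haP u hu).symm)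
  obtain ⟨w, hw, hwa⟩ :=
    exists_theta_conj (hnil u hu2) (sylowIn_cent (g • P) hgc) (twoGroup_zpowers ha.1) hau
  have ha' := ha.conj w
  set a' := w * a * w⁻¹ with ha'def
  have h1 : ∀ x ∈ ((g • P : Sylow 2 G) : Subgroup G), x * a' = a' * x :=
    good_central ha' (g • P) (hwa a (mem_zpowers a))
  have h2 : ∀ x ∈ ((w • P : Sylow 2 G) : Subgroup G), x * a' = a' * x :=
    good_central ha' (w • P) (mem_smul_sylow.2 (by simpa [ha'def, mul_assoc] using haP))
  obtain ⟨v, hv, hvP⟩ := exists_theta_conj (hnil a' ha'.1) (sylowIn_cent (g • P) h1)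
    (w • P : Sylow 2 G).2 (fun x hx => mem_cent.2 (h2 x hx))
  have hwu : w⁻¹ * u * w = u := by rw [mul_assoc, ← theta_le_cent hw, inv_mul_cancel_left]
  have huw : u ∈ ((w • P : Sylow 2 G) : Subgroup G) := mem_smul_sylow.2 (by rw [hwu]; exact hu)
  have hvu : v * u * v⁻¹ = u := by
    have h3 : v * u * v⁻¹ * u⁻¹ ∈ Cfsg.centralizerPPrimeCore 2 a' := by
      rw [show v * u * v⁻¹ * u⁻¹ = v * (u * v⁻¹ * u⁻¹) by group]
      exact mul_mem hv ((mem_normalizer_iff.1 (H7.centralizer_le_normalizer_centralizerPPrimeCore 2 a'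
        (mem_cent.2 (h1 u hgu))) _).1 (inv_mem hv))
    exact mul_inv_eq_one.1 (eq_one_of_odd_two (odd_theta a') (g • P : Sylow 2 G).2 h3
      (mul_mem (hvP u huw) (inv_mem hgu)))
  intro y hy
  have h4 : Commute (v * w * y * (v * w)⁻¹) u := by
    refine hgc _ ?_
    have := hvP (w * y * w⁻¹) (mem_smul_sylow.2 (by simpa [mul_assoc] using hy))
    simpa [mul_assoc] using this
  have h5a : Commute v u := mul_inv_eq_iff_eq_mul.1 hvu
  have h5 : Commute (v * w) u := h5a.mul_left (theta_le_cent hw : Commute w u)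
  have h6 := ((h5.inv_left.mul_left h4).mul_left h5)
  rw [show (v * w)⁻¹ * (v * w * y * (v * w)⁻¹) * (v * w) = y by group] at h6
  exact h6.eq.symm

theorem mem_omZ_of_good (P : Sylow 2 G) {x : G} (hx : GoodInv x) (hxP : x ∈ (P : Subgroup G)) :
    x ∈ omZ (P : Subgroup G) :=
  ⟨hxP, H65.mul_self_of_two hx.1, hx.2 _ P.2 hxP⟩

theorem omZ_good (hnil : TwoNil G) (P : Sylow 2 G) {a : G} (ha : GoodInv a)
    (haP : a ∈ (P : Subgroup G)) {z : G} (hz : z ∈ omZ (P : Subgroup G)) (hz1 : z ≠ 1) :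
    GoodInv z := by
  refine ⟨two_of_sq hz.2.1 hz1, fun Q hQ hzQ x hx => ?_⟩
  obtain ⟨g, hg⟩ := exists_conj_mem P hQ
  have h : Commute (g * z * g⁻¹) (g * x * g⁻¹) :=
    central_of_conj hnil P ha haP hz hz1 (hg z hzQ) _ (hg x hx)
  have h' := h.map (MulAut.conj g⁻¹).toMonoidHom
  simpa [mul_assoc] using h'.eq

theorem conj_mem_omZ (hnil : TwoNil G) (P : Sylow 2 G) {a : G} (ha : GoodInv a)
    (haP : a ∈ (P : Subgroup G)) {z g : G} (hz : z ∈ omZ (P : Subgroup G))
    (hu : g * z * g⁻¹ ∈ (P : Subgroup G)) : g * z * g⁻¹ ∈ omZ (P : Subgroup G) := by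
  by_cases hz1 : z = 1
  · rw [hz1, mul_one, mul_inv_cancel]; exact one_mem _
  · exact mem_omZ_of_good P ((omZ_good hnil P ha haP hz hz1).conj g) hu

theorem mem_normalizer_omZ (hnil : TwoNil G) (P : Sylow 2 G) {a : G} (ha : GoodInv a)
    (haP : a ∈ (P : Subgroup G)) {g : G}
    (hg : ∀ z ∈ omZ (P : Subgroup G), g * z * g⁻¹ ∈ (P : Subgroup G)) :
    g ∈ normalizer ((omZ (P : Subgroup G) : Subgroup G) : Set G) := by
  refine H82.mem_normalizer_of_map_le ?_
  rintro _ ⟨z, hz, rfl⟩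
  exact conj_mem_omZ hnil P ha haP hz (hg z hz)

theorem normalizer_le_omZ (hnil : TwoNil G) (P : Sylow 2 G) {a : G} (ha : GoodInv a)
    (haP : a ∈ (P : Subgroup G)) :
    normalizer ((P : Subgroup G) : Set G) ≤ normalizer ((omZ (P : Subgroup G) : Subgroup G) : Set G) :=
  fun _ hn => mem_normalizer_omZ hnil P ha haP fun z hz => (mem_normalizer_iff.1 hn z).1 hz.1

theorem pCore_eq_bot (hcore : Cfsg.pPrimeCore 2 G = ⊥) (hnil : TwoNil G) (P : Sylow 2 G)
    (hnn : ¬ (P : Subgroup G).Normal) {a : G} (ha : GoodInv a) (haP : a ∈ (P : Subgroup G)) :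
    Cfsg.pCore 2 G = ⊥ := by
  haveI : Fact (Nat.Prime 2) := ⟨Nat.prime_two⟩
  by_contra hne
  set Q := Cfsg.pCore 2 G with hQdef
  haveI : Q.Normal := H1.pCore_normal' 2 G
  set C := centralizer (Q : Set G) with hCdef
  haveI : C.Normal := inferInstance
  obtain ⟨⟨y, hyQ⟩, hy⟩ : ∃ y : Q, orderOf y = 2 := by
    obtain ⟨x, hx⟩ := exists_prime_orderOf_dvd_card' 2
      (((H1.isPGroup_pCore 2 G).card_eq_or_dvd).resolve_left fun e => hne (card_eq_one.1 e))
    exact ⟨x, hx⟩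
  rw [orderOf_mk] at hy
  set K := closure {x : G | x ∈ C ∧ Odd (orderOf x)} with hK
  have hKn : K.Normal := by
    refine ⟨fun n hn g => ?_⟩
    have : (MulAut.conj g).toMonoidHom n ∈ K.map (MulAut.conj g).toMonoidHom := mem_map_of_mem _ hn
    rw [hK, MonoidHom.map_closure] at this
    refine closure_mono ?_ this
    rintro _ ⟨x, ⟨hxC, hxo⟩, rfl⟩
    exact ⟨‹C.Normal›.conj_mem x hxC g, by
      rw [MulEquiv.coe_toMonoidHom, MulEquiv.orderOf_eq]; exact hxo⟩
  have hKle : K ≤ Cfsg.centralizerPPrimeCore 2 y := (closure_le _).2 fun x hx =>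
    le_theta (hnil y hy) hx.2 (mem_centralizer_iff.1 hx.1 y hyQ).symm
  have hK1 : K = ⊥ := by
    haveI := hKn
    have h : K ≤ Cfsg.pPrimeCore 2 G :=
      H1.le_pPrimeCore (Nat.coprime_two_right.2 ((odd_theta y).of_dvd_nat (card_dvd_of_le hKle)))
    rwa [hcore, le_bot_iff] at h
  have hodd1 : ∀ x ∈ C, Odd (orderOf x) → x = 1 := fun x hx ho =>
    mem_bot.1 (hK1 ▸ subset_closure ⟨hx, ho⟩)
  have hCQ : C ≤ Q := by
    refine H1.le_pCore (IsPGroup.of_card (n := (Nat.card C).factorization 2) ?_)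
    obtain ⟨m, hm⟩ : ∃ m, Nat.card C = 2 ^ m := by
      refine ⟨_, Nat.eq_prime_pow_of_unique_prime_dvd Nat.card_pos.ne' fun {d} hd hdC => ?_⟩
      by_contra hd2
      haveI := Fact.mk hd
      obtain ⟨⟨x, hx⟩, hxo⟩ := exists_prime_orderOf_dvd_card' d hdC
      rw [orderOf_mk] at hxo
      have := hodd1 x hx (hxo ▸ hd.odd_of_ne_two hd2)
      rw [this, orderOf_one] at hxo
      exact hd.one_lt.ne hxo
    rw [hm, Nat.prime_two.factorization_pow, Finsupp.single_eq_same]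
  have hth : ∀ g : G, Cfsg.centralizerPPrimeCore 2 (g * a * g⁻¹) = ⊥ := fun g => by
    have h1 : Cfsg.centralizerPPrimeCore 2 a = ⊥ := (eq_bot_iff_forall _).2 fun x hx =>
      hodd1 x (H7.centralizerPPrimeCore_le_centralizer_pCore
        (by rw [pow_two]; exact H65.mul_self_of_two ha.1) hx)
        ((odd_theta a).of_dvd_nat (Subgroup.orderOf_dvd_natCard _ hx))
    rw [H7.centralizerPPrimeCore_conj_eq, h1, Subgroup.map_bot]
  have haQ : a ∈ Q := hCQ (mem_centralizer_iff.2 fun x hx =>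
    (ha.2 _ P.2 haP x (H1.pCore_le_sylow P hx)).symm)
  refine hnn ⟨fun y' hy' g => ?_⟩
  have hm : g * a * g⁻¹ ∈ (P : Subgroup G) :=
    H1.pCore_le_sylow P (‹Q.Normal›.conj_mem a haQ g)
  have hgood := ha.conj g
  obtain ⟨o, ho, s, hs, e⟩ := cent_decomp (hnil _ hgood.1) (sylowIn_cent P (good_central hgood P hm))
    (show g * y' * g⁻¹ * (g * a * g⁻¹) = g * a * g⁻¹ * (g * y' * g⁻¹) by
      simpa [mul_assoc] using congrArg (fun t => g * t * g⁻¹) (ha.2 _ P.2 haP y' hy').symm)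
  rw [hth g, mem_bot] at ho
  rw [e, ho, one_mul]
  exact hs

/-- No involution of the centre of a Sylow 2-subgroup is isolated. -/
theorem exists_fused (hcore : Cfsg.pPrimeCore 2 G = ⊥) (hnil : TwoNil G) (P : Sylow 2 G)
    (hnn : ¬ (P : Subgroup G).Normal) {a : G} (ha : GoodInv a) (haP : a ∈ (P : Subgroup G))
    {z : G} (hz : z ∈ omZ (P : Subgroup G)) (hz1 : z ≠ 1) :
    ∃ g : G, g * z * g⁻¹ ∈ omZ (P : Subgroup G) ∧ g * z * g⁻¹ ≠ z := by
  by_contra hno
  push Not at hno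
  have hz2 : orderOf z = 2 := two_of_sq hz.2.1 hz1
  have hiso : Cfsg.IsIsolatedInvolution z := by
    refine ⟨hz2, fun g hc => ?_⟩
    obtain ⟨o, ho, hle⟩ := exists_theta_conj (hnil z hz2)
      (sylowIn_cent P fun y hy => (hz.2.2 y hy).symm)
      (twoGroup_zpowers (H67.invol_conj hz2 g)) (zpowers_le.2 (mem_cent.2 hc.eq.symm))
    have h1 := hle _ (mem_zpowers _)
    have h2 : o * g * z * (o * g)⁻¹ ∈ (P : Subgroup G) := by simpa [mul_assoc] using h1
    have h3 := hno (o * g) (conj_mem_omZ hnil P ha haP hz h2)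
    calc g * z * g⁻¹ = o⁻¹ * (o * g * z * (o * g)⁻¹) * o := by group
      _ = o⁻¹ * (z * o) := by rw [h3, mul_assoc]
      _ = z := by rw [← theta_le_cent ho, inv_mul_cancel_left]
  have hc : z ∈ center G := mem_center_iff.2 fun g => by
    have := H85.zStar hiso g
    rw [hcore, mem_bot] at this
    exact (mul_inv_eq_iff_eq_mul.1 (mul_inv_eq_one.1 this)).symm
  haveI : (zpowers z).Normal := ⟨fun x hx g => by
    have hxc : x ∈ center G := (zpowers_le.2 hc) hx
    rwa [mem_center_iff.1 hxc g, mul_inv_cancel_right]⟩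
  have h5 := H1.le_pCore (twoGroup_zpowers hz2) (mem_zpowers z)
  rw [pCore_eq_bot hcore hnil P hnn ha haP, mem_bot] at h5
  exact hz1 h5

theorem four_le_omZ (hcore : Cfsg.pPrimeCore 2 G = ⊥) (hnil : TwoNil G) (P : Sylow 2 G)
    (hnn : ¬ (P : Subgroup G).Normal) {a : G} (ha : GoodInv a) (haP : a ∈ (P : Subgroup G)) :
    4 ≤ Nat.card (omZ (P : Subgroup G)) := by
  haveI : Fact (Nat.Prime 2) := ⟨Nat.prime_two⟩
  have hm := mem_omZ_of_good P ha haP
  obtain ⟨g, hg, hne⟩ := exists_fused hcore hnil P hnn ha haP hm (H65.ne_one_of_two ha.1)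
  obtain ⟨k, hk⟩ := IsPGroup.iff_card.1 (P.2.to_le (omZ_le (P : Subgroup G)))
  have h3 : 3 ≤ Nat.card (omZ (P : Subgroup G)) := by
    let f : Fin 3 → omZ (P : Subgroup G) := ![⟨1, one_mem _⟩, ⟨a, hm⟩, ⟨_, hg⟩]
    have hinj : Function.Injective f := by
      have e1 : a ≠ 1 := H65.ne_one_of_two ha.1
      have e2 : g * a * g⁻¹ ≠ 1 := fun h => e1 (conj_eq_one_iff.1 h)
      intro i j h
      fin_cases i <;> fin_cases j <;>
        simp [f, e1, e1.symm, e2, e2.symm, hne, hne.symm] at h ⊢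
    simpa using Nat.card_le_card_of_injective f hinj
  rw [hk] at h3 ⊢
  calc 4 = 2 ^ 2 := rfl
    _ ≤ 2 ^ k := Nat.pow_le_pow_right two_pos (by
      by_contra h
      interval_cases k <;> simp at h3)

end H9.GI
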