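import Cfsg.Agent.H9.GI.Emb
import Cfsg.Agent.H18.GI.SzChar

/-!
Groups with trivial core, a central involution of a Sylow 2-subgroup fusing only inside its
normaliser and nilpotent-complement centralisers: the induction (helper9).
-/

set_option autoImplicit false
set_option linter.style.haveILetI false
set_option linter.unusedSectionVars false

namespace H9.GI

open Subgroup

universe u

/-- The case of exactly three involutions in a non-elementary Sylow 2-subgroup. -/
def FourSupply : Prop :=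
  ∀ (G : Type u) [Group G] [Finite G], Cfsg.pPrimeCore 2 G = ⊥ → ∀ P : Sylow 2 G,
    ¬ (P : Subgroup G).Normal →
    (∀ x : G, orderOf x = 2 → Cfsg.HasNormalPComplement 2 ↥(centralizer ({x} : Set G))) →
    (∀ x ∈ (P : Subgroup G), x * x = 1 → ∀ y ∈ (P : Subgroup G), x * y = y * x) →
    Cfsg.pCore 2 G = ⊥ → Nat.card {x : (P : Subgroup G) // x * x = 1} = 4 →
    (∃ x ∈ (P : Subgroup G), x * x ≠ 1) → False

/-- The semiregularity theorem. -/
def GoodSupply : Prop :=
  ∀ (G : Type u) [Group G] [Finite G] (H W T : Subgroup G),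
    H61.GI.Setup G H W T → H61.GI.Oracle H W T → H61.GI.Good H W

theorem szSupply : SzSupply.{u} := fun _ _ _ h S => H61.GI.szChar_of_iso h S

variable {G : Type u} [Group G] [Finite G]

theorem five_of_four {A : Subgroup G} (h4 : Nat.card A = 4) {x y z w : G} (hx : x ∈ A) (hy : y ∈ A)
    (hz : z ∈ A) (hw : w ∈ A) (hx1 : x ≠ 1) (hy1 : y ≠ 1) (hz1 : z ≠ 1) (hw1 : w ≠ 1)
    (hxy : x ≠ y) (hzx : z ≠ x) (hzy : z ≠ y) (hwx : w ≠ x) (hwy : w ≠ y) : z = w := by
  by_contra hne
  let f : Fin 5 → A := ![⟨1, one_mem _⟩, ⟨x, hx⟩, ⟨y, hy⟩, ⟨z, hz⟩, ⟨w, hw⟩]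
  have hinj : Function.Injective f := by
    intro i j h
    fin_cases i <;> fin_cases j <;>
      simp [f, hx1, hx1.symm, hy1, hy1.symm, hz1, hz1.symm, hw1, hw1.symm, hxy, hxy.symm, hzx,
        hzx.symm, hzy, hzy.symm, hwx, hwx.symm, hwy, hwy.symm, hne, Ne.symm hne] at h ⊢
  have := Nat.card_le_card_of_injective f hinj
  rw [h4, Nat.card_fin] at this
  omega

theorem main_step (hgood : GoodSupply.{u}) (hfour : FourSupply.{u})
    (ih : ∀ (L : Type u) [Group L] [Finite L], Nat.card L < Nat.card G → MainStmt L) :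
    MainStmt G := by
  haveI : Fact (Nat.Prime 2) := ⟨Nat.prime_two⟩
  intro hcore hnil P hnn hex
  obtain ⟨a, haP, ha⟩ := hex
  set A := omZ (P : Subgroup G) with hA
  have hA4 : 4 ≤ Nat.card A := four_le_omZ hcore hnil P hnn ha haP
  by_cases hE : ∃ E : Subgroup G, Cfsg.IsElementaryAbelian 2 E ∧ 2 ^ 3 ≤ Nat.card E ∧ A ≤ E
      ∧ E ≤ (P : Subgroup G)
  · obtain ⟨E, hEe, hE8, hAE, -⟩ := hE
    by_cases hW : sigW A = ⊥
    · refine cit_case hcore hnil P hnn ha haP fun y hy hy2 => ?_
      have h := cent_le hnil P ha haP hA4 hy hy2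
      rwa [← hA, hW, bot_sup_eq] at h
    · exact (emb_false (hgood G) szSupply ih hcore hnil P hnn ha haP hEe hE8 hAE hW).elim
  · push Not at hE
    obtain ⟨k, hk⟩ := IsPGroup.iff_card.1 (P.2.to_le (omZ_le (P : Subgroup G)))
    rw [← hA] at hk
    have hA8 : ¬ 2 ^ 3 ≤ Nat.card A := fun h =>
      hE A (omZ_ea _) h le_rfl (omZ_le _)
    have hcard : Nat.card A = 4 := by
      rw [hk] at hA4 hA8 ⊢
      have hk3 : k < 3 := by
        by_contra h
        exact hA8 (Nat.pow_le_pow_right two_pos (by omega))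
      interval_cases k <;> simp_all
    have hinv : ∀ y ∈ (P : Subgroup G), y * y = 1 → y ∈ A := by
      intro y hy hy2
      by_contra hyA
      have hye : Cfsg.IsElementaryAbelian 2 (zpowers y) :=
        H7.isElementaryAbelian_of_comm
          (fun u hu v hv => by
            obtain ⟨i, rfl⟩ := hu; obtain ⟨j, rfl⟩ := hv
            exact (Commute.zpow_zpow (Commute.refl y) i j).eq)
          (fun u hu => by
            obtain ⟨i, rfl⟩ := hu
            rw [pow_two, ← (Commute.refl y).mul_zpow, hy2, one_zpow])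
      refine hE (A ⊔ zpowers y) (H7.isElementaryAbelian_sup (omZ_ea _) hye fun z hz v hv => ?_)
        ?_ le_sup_left (sup_le (omZ_le _) (zpowers_le.2 hy))
      · obtain ⟨i, rfl⟩ := hv
        exact (Commute.zpow_right (hz.2.2 y hy : Commute z y) i).eq
      · have hlt : A < A ⊔ zpowers y := lt_of_le_of_ne le_sup_left fun e =>
          hyA (e ▸ mem_sup_right (mem_zpowers y))
        obtain ⟨c, hc⟩ := card_dvd_of_le hlt.le
        have hc2 : 2 ≤ c := by
          by_contra h
          have hpos := Nat.card_pos (α := ↥(A ⊔ zpowers y))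
          interval_cases c
          · omega
          · exact hlt.ne (eq_of_le_of_card_ge hlt.le (by rw [hc, mul_one]))
        rw [hc, hcard]
        omega
    by_cases hall : ∀ x ∈ (P : Subgroup G), x * x = 1
    · have hPA : ∀ x ∈ (P : Subgroup G), x ∈ A := fun x hx => hinv x hx (hall x hx)
      refine Or.inl ⟨H7.isElementaryAbelian_of_comm
        (fun x hx y hy => (hPA x hx).2.2 y hy) (fun x hx => by rw [pow_two]; exact hall x hx), ?_⟩
      intro x hx y hy hx1 hy1
      by_cases hxy : x = y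
      · exact ⟨1, by simp [hxy]⟩
      obtain ⟨g, hg, hgne⟩ := exists_fused hcore hnil P hnn ha haP (hPA x hx) hx1
      by_cases h1 : g * x * g⁻¹ = y
      · exact ⟨g, h1⟩
      obtain ⟨c, hc, hcne⟩ := exists_fused hcore hnil P hnn ha haP (hPA y hy) hy1
      by_cases h2 : c * y * c⁻¹ = x
      · exact ⟨c⁻¹, by rw [← h2]; group⟩
      have he := five_of_four hcard (hPA x hx) (hPA y hy) hg hc hx1 hy1
        (fun h => hx1 (conj_eq_one_iff.1 h)) (fun h => hy1 (conj_eq_one_iff.1 h))
        hxy hgne h1 h2 hcne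
      refine ⟨c⁻¹ * g, ?_⟩
      calc c⁻¹ * g * x * (c⁻¹ * g)⁻¹ = c⁻¹ * (g * x * g⁻¹) * c := by group
        _ = y := by rw [he]; group
    · push Not at hall
      refine (hfour G hcore P hnn hnil (fun x hx h y hy => (hinv x hx h).2.2 y hy)
        (pCore_eq_bot hcore hnil P hnn ha haP) ?_ hall).elim
      rw [← hcard]
      refine Nat.card_congr
        { toFun := fun x => ⟨(x.1 : G), hinv _ x.1.2 (congrArg Subtype.val x.2)⟩
          invFun := fun z => ⟨⟨(z : G), z.2.1⟩, Subtype.ext z.2.2.1⟩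
          left_inv := fun x => rfl
          right_inv := fun z => rfl }

theorem main_all (hgood : GoodSupply.{u}) (hfour : FourSupply.{u}) :
    ∀ (n : ℕ) (G : Type u) [Group G] [Finite G], Nat.card G = n → MainStmt G := by
  intro n
  induction n using Nat.strong_induction_on with
  | _ n ih =>
    intro G _ _ hn
    exact main_step hgood hfour fun L _ _ hL => ih _ (hn ▸ hL) L rfl

/-- The case `p = 2`, given the semiregularity theorem and the case of three involutions. -/
theorem two_case_of (hgood : GoodSupply.{u}) (hfour : FourSupply.{u})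
    (hcore : Cfsg.pPrimeCore 2 G = ⊥) (P : Sylow 2 G) (hnn : ¬ (P : Subgroup G).Normal)
    (ha : ∀ x ∈ (P : Subgroup G), ∀ y ∈ (P : Subgroup G), (∃ g : G, g * x * g⁻¹ = y) →
      ∃ n ∈ Subgroup.normalizer ((P : Subgroup G) : Set G), n * x * n⁻¹ = y)
    (hb : ∀ x ∈ (P : Subgroup G), orderOf x = 2 →
      Cfsg.HasNormalPComplement 2 ↥(Subgroup.centralizer ({x} : Set G)))
    (hd : ¬ (Cfsg.IsElementaryAbelian 2 (P : Subgroup G) ∧
      ∀ x ∈ (P : Subgroup G), ∀ y ∈ (P : Subgroup G), x ≠ 1 → y ≠ 1 → ∃ g : G, g * x * g⁻¹ = y)) :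
    Cfsg.Lie.IsoSuzuki G := by
  haveI : Fact (Nat.Prime 2) := ⟨Nat.prime_two⟩
  have hnil : TwoNil G := fun t ht => by
    obtain ⟨g, hg⟩ := exists_conj_mem_one P ht
    exact npc_conj g (hb _ hg (H67.invol_conj ht g))
  obtain ⟨x, hx, hx1⟩ : ∃ x ∈ (P : Subgroup G), x ≠ 1 := by
    by_contra h
    push Not at h
    exact hnn ((Subgroup.eq_bot_iff_forall _).2 h ▸ inferInstance)
  obtain ⟨z, hz, hz1, hzc⟩ := H11.CTI.exists_sylow_central P hx hx1
  obtain ⟨a, haz, ha2⟩ := H11.CIT.exists_invol (P.2.to_le (zpowers_le.2 hz))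
    (zpowers_ne_bot.2 hz1)
  have haP : a ∈ (P : Subgroup G) := zpowers_le.2 hz haz
  have hac : ∀ y ∈ (P : Subgroup G), a * y = y * a := fun y hy => by
    obtain ⟨i, rfl⟩ := haz
    exact ((show Commute y z from hzc y hy).zpow_right i).symm.eq
  have hgoodinv : GoodInv a := by
    refine ⟨ha2, fun Q hQ haQ y hy => ?_⟩
    obtain ⟨g, hg⟩ := exists_conj_mem P hQ
    obtain ⟨n, hn, hna⟩ := ha a haP _ (hg a haQ) ⟨g, rfl⟩
    have hy' : n⁻¹ * (g * y * g⁻¹) * n ∈ (P : Subgroup G) :=
      (mem_normalizer_iff''.1 hn _).1 (hg y hy)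
    have h1 : Commute a (n⁻¹ * (g * y * g⁻¹) * n) := hac _ hy'
    have h2 := h1.map (MulAut.conj n).toMonoidHom
    simp only [MulEquiv.coe_toMonoidHom, MulAut.conj_apply] at h2
    rw [hna, show n * (n⁻¹ * (g * y * g⁻¹) * n) * n⁻¹ = g * y * g⁻¹ by group] at h2
    have h3 := h2.map (MulAut.conj g⁻¹).toMonoidHom
    simpa [mul_assoc] using h3.eq
  exact (main_all hgood hfour _ G rfl hcore hnil P hnn ⟨a, haP, hgoodinv⟩).resolve_left
    fun h => hd h

end H9.GI
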